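import Mathlib

/-!
# (M,23) of S4929: the list of numerical facts (helper924)

`Facts d b w c` : the facts on a real valued irreducible character `X` of the Monster with `X(5A) = 2375000 c`
(`c = 1` or `c = -1`), `d = X(1)`, `b = X(2A)`, `w = |2A| b / d`, contained in `π = S_(2,2)(196883)`.
The sieve (`Sieve.lean`) shows: `c = 1`, `d = 77316619273928125000`, `b = 11487099325000`.
-/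

set_option autoImplicit false

namespace Cfsg.Agent.H924.M23

/-- the number of elements of the class `2A` -/
def cA : ℤ := 97239461142009186000

/-- `|5A| * 2375000` -/
def cN : ℤ := 2 ^ 35 * 3 ^ 14 * 5 ^ 8 * 7 ^ 5 * 11 * 13 ^ 3 * 17 * 19 * 23 * 29 * 31 * 41 * 47 * 59 * 71

/-- the degree of `S_(2,2)(196883)` -/
def cD : ℤ := 125213636056146619086

/-- the degree wanted -/
def cT : ℤ := 77316619273928125000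

/-- `11` times the norm of `a₁ φ₁ + a₂ φ₅₃ + a₃ φ₉₁ + a₄ φ₂₉ + a₅ φ₁₆` on the `11`-regular elements of `M₁₂` -/
def N11 (a₁ a₂ a₃ a₄ a₅ : ℤ) : ℤ :=
  9 * a₁ ^ 2 + 14 * a₂ ^ 2 + 15 * a₃ ^ 2 + 12 * a₄ ^ 2 + 5 * a₅ ^ 2 - 14 * a₁ * a₂ + 10 * a₁ * a₃ - 6 * a₁ * a₄
    + 2 * a₁ * a₅ - 20 * a₂ * a₃ + 12 * a₂ * a₄ - 4 * a₂ * a₅ - 18 * a₃ * a₄ + 6 * a₃ * a₅ - 8 * a₄ * a₅

/-- `13` times the norm of `a₁ φ₁ + a₂ φ₁₁ + a₃ φ₁₆` on the `13`-regular elements of `L₃(3)` -/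
def N13 (a₁ a₂ a₃ : ℤ) : ℤ :=
  9 * a₁ ^ 2 + 10 * a₂ ^ 2 + 3 * a₃ ^ 2 - 10 * a₁ * a₂ + 2 * a₁ * a₃ - 4 * a₂ * a₃

/-- the `11`-section; `n / 121` is the part of the norm of `X` on the elements of order divisible by `11` -/
def Sec11 (c d b w n : ℤ) : Prop :=
  (∃ a₁ a₂ a₃ a₄ a₅ : ℤ, a₁ - 2 * a₂ + a₃ - a₄ + a₅ = c ∧ a₁ - a₃ + a₄ - a₅ = c ∧
    (121 : ℤ) ∣ d - (a₁ + 53 * a₂ + 91 * a₃ + 29 * a₄ + 16 * a₅) ∧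
    (11 : ℤ) ∣ b - (a₁ + 5 * a₂ - a₃ + a₄ + 4 * a₅) ∧ (11 : ℤ) ∣ w ∧ n = N11 a₁ a₂ a₃ a₄ a₅) ∨
  (n = 11 ∧ (((121 : ℤ) ∣ d - 66 * c ∧ (11 : ℤ) ∣ b - 6 * c) ∨ ((121 : ℤ) ∣ d + 99 * c ∧ (11 : ℤ) ∣ b - c) ∨
    ((121 : ℤ) ∣ d - 176 * c ∧ (11 : ℤ) ∣ b + 4 * c)))

/-- the `13`-section; `x = X(13A)`, `z = X(13B)`; `n / 169` is (at most) the part of the norm of `X` on the elements
whose `13`-part is in the class `13A`. The last four cases are multiples of the characters of `13`-defect zero of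
`L₃(3)`: 13, 26a, 39, and 26b + 26c (whose norm is 2, here 6 s² ≤ 13 (s/2)² · 2 is used). -/
def Sec13 (d b n z : ℤ) : Prop :=
  (169 : ℤ) ∣ d - z ∧ ∃ x : ℤ, (2197 : ℤ) ∣ d + 948 * z + 1248 * x ∧
    ((∃ a₁ a₂ a₃ : ℤ, x = a₁ + 11 * a₂ + 16 * a₃ ∧ (13 : ℤ) ∣ b - (a₁ + 3 * a₂) ∧ n = N13 a₁ a₂ a₃) ∨
      (∃ k : ℤ, x = 13 * k ∧ (13 : ℤ) ∣ b + 3 * k ∧ n = 13 * k ^ 2) ∨
      (∃ k : ℤ, x = 26 * k ∧ (13 : ℤ) ∣ b - 2 * k ∧ n = 13 * k ^ 2) ∨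
      (∃ k : ℤ, x = 39 * k ∧ (13 : ℤ) ∣ b + k ∧ n = 13 * k ^ 2) ∨
      (∃ s : ℤ, x = 26 * s ∧ (13 : ℤ) ∣ b + 2 * s ∧ n = 6 * s ^ 2))

/-- `(d, b)` is `± (r, s)` modulo `q` -/
def Ty (q d b r s : ℤ) : Prop := (q ∣ d - r ∧ q ∣ b - s) ∨ (q ∣ d + r ∧ q ∣ b + s)

/-- The facts. -/
structure Facts (d b w c : ℤ) : Prop where
  /-- the sign -/
  hc : c = 1 ∨ c = -1
  /-- the degree is positive -/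
  pos : 0 < d
  /-- `X` is a constituent of `S_(2,2)(196883)` -/
  le : d ≤ cD
  /-- `ω(5A) = |5A| X(5A) / d` is an integer, and is `4` modulo `5` -/
  five : ∃ v : ℤ, v * d = cN ∧ (5 : ℤ) ∣ v + c
  /-- `w = ω(2A)` is an integer -/
  om : w * d = cA * b
  /-- `w` is `2` modulo `5` -/
  om5 : (5 : ℤ) ∣ w - 2
  /-- restriction to `2^(1+24)` -/
  two : (4096 : ℤ) ∣ d - b
  /-- the class sum `2A` squared -/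
  sq : cA * b ^ 2 ≤ d * (d + 27143910000 * |b| + 8 * 10 ^ 28)
  t17 : Ty 17 d b 0 0 ∨ Ty 17 d b 1 1 ∨ Ty 17 d b 6 2 ∨ Ty 17 d b 6 (-2) ∨ Ty 17 d b 7 (-1) ∨ Ty 17 d b 8 0 ∨
    Ty 17 d b 3 (-1)
  t19 : Ty 19 d b 0 0 ∨ Ty 19 d b 1 1 ∨ Ty 19 d b 4 0 ∨ Ty 19 d b 5 1 ∨ Ty 19 d b 3 (-1) ∨ Ty 19 d b 6 (-2)
  t23 : Ty 23 d b 0 0 ∨ Ty 23 d b 1 1 ∨ Ty 23 d b 1 (-1) ∨ Ty 23 d b 2 0 ∨ Ty 23 d b 3 1 ∨ Ty 23 d b 3 (-1)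
  t31 : Ty 31 d b 0 0 ∨ Ty 31 d b 1 1 ∨ Ty 31 d b 1 (-1) ∨ Ty 31 d b 2 0
  t47 : Ty 47 d b 0 0 ∨ Ty 47 d b 1 1 ∨ Ty 47 d b 1 (-1)
  t29 : (29 : ℤ) ∣ d ∨ (29 : ℤ) ∣ d - 1 ∨ (29 : ℤ) ∣ d + 1 ∨ (29 : ℤ) ∣ d - 2 ∨ (29 : ℤ) ∣ d + 2
  t41 : (41 : ℤ) ∣ d ∨ (41 : ℤ) ∣ d - 1 ∨ (41 : ℤ) ∣ d + 1
  t59 : (59 : ℤ) ∣ d ∨ (59 : ℤ) ∣ d - 1 ∨ (59 : ℤ) ∣ d + 1
  t71 : (71 : ℤ) ∣ d ∨ (71 : ℤ) ∣ d - 1 ∨ (71 : ℤ) ∣ d + 1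
  /-- the sections of `11` and `13`, and the norm: `1/5 + n₁/121 + n₂/169 + z²/52728 - 1/55 ≤ 1`
  (the classes `55A`, `110A` are in the sections of `5A` and of `11A`) -/
  sec : ∃ n₁ n₂ z : ℤ, Sec11 c d b w n₁ ∧ Sec13 d b n₂ z ∧
    n₁ * 169 * 52728 + n₂ * 121 * 52728 + z ^ 2 * 121 * 169 ≤ 9 * 11 * 169 * 52728

end Cfsg.Agent.H924.M23
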