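import Cfsg.Agent.H924.M23.Facts

/-!
# (M,23) of S4929: the sieve, the functions (helper924)
-/

set_option autoImplicit false

namespace Cfsg.Agent.H924.M23

/-- the vectors of the `11`-section: `x₁ mod 121`, `x₂ mod 11`, `n` (`c = 1`) -/
def T11 : List (ℕ × ℕ × ℕ) :=
  [(0, 1, 22), (1, 1, 9), (2, 1, 14), (2, 3, 91), (3, 1, 37), (3, 3, 70), (4, 1, 78), (4, 3, 67), (5, 3, 82),
   (5, 8, 82), (6, 8, 49), (7, 8, 34), (8, 8, 37), (9, 8, 58), (10, 8, 97), (15, 5, 78), (16, 5, 71),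
   (17, 5, 82), (18, 10, 89), (19, 10, 70), (20, 1, 58), (20, 10, 69), (21, 1, 31), (21, 10, 86),
   (22, 1, 22), (23, 1, 31), (23, 6, 97), (24, 1, 58), (24, 6, 58), (25, 6, 37), (26, 6, 34), (26, 8, 67),
   (27, 6, 49), (27, 8, 38), (28, 6, 82), (28, 8, 27), (29, 8, 34), (30, 2, 81), (30, 8, 59), (31, 2, 58),
   (32, 2, 53), (33, 2, 66), (33, 4, 99), (34, 2, 97), (34, 4, 86), (35, 4, 91), (39, 10, 82), (40, 10, 67),
   (41, 10, 70), (42, 10, 91), (43, 1, 97), (44, 6, 66), (45, 6, 31), (46, 6, 14), (47, 6, 15), (48, 6, 34),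
   (48, 8, 89), (49, 0, 93), (49, 6, 71), (49, 8, 82), (50, 0, 82), (50, 2, 71), (50, 8, 93), (51, 0, 89),
   (51, 2, 34), (52, 2, 15), (53, 2, 14), (54, 2, 31), (55, 2, 66), (56, 7, 97), (57, 9, 91), (58, 9, 70),
   (59, 9, 67), (60, 9, 82), (64, 4, 91), (65, 4, 86), (65, 6, 97), (66, 4, 99), (66, 6, 66), (67, 6, 53),
   (68, 6, 58), (69, 0, 59), (69, 6, 81), (70, 0, 34), (71, 0, 27), (71, 2, 82), (72, 0, 38), (72, 2, 49),
   (73, 0, 67), (73, 2, 34), (74, 2, 37), (75, 2, 58), (75, 7, 58), (76, 2, 97), (76, 7, 31), (77, 7, 22),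
   (78, 7, 31), (78, 9, 86), (79, 7, 58), (79, 9, 69), (80, 9, 70), (81, 9, 89), (82, 3, 82), (83, 3, 71),
   (84, 3, 78), (89, 0, 97), (90, 0, 58), (91, 0, 37), (92, 0, 34), (93, 0, 49), (94, 0, 82), (94, 5, 82),
   (95, 5, 67), (95, 7, 78), (96, 5, 70), (96, 7, 37), (97, 5, 91), (97, 7, 14), (98, 7, 9), (99, 7, 22),
   (100, 1, 75), (100, 7, 53), (101, 1, 58), (102, 1, 59), (102, 3, 70), (103, 1, 78), (103, 3, 45),
   (104, 3, 38), (105, 3, 49), (106, 3, 78), (114, 5, 78), (115, 5, 49), (116, 5, 38), (117, 5, 45),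
   (117, 7, 78), (118, 5, 70), (118, 7, 59), (119, 7, 58), (120, 1, 53), (120, 7, 75)]

/-- the vectors of the `13`-section: `x mod 169`, `y mod 13`, `n` -/
def T13 : List (ℕ × ℕ × ℕ) :=
  [(0, 0, 0), (1, 1, 9), (1, 6, 113), (1, 9, 126), (2, 2, 36), (2, 7, 62), (2, 10, 101), (3, 3, 81),
   (3, 8, 29), (3, 11, 94), (4, 4, 131), (4, 9, 14), (4, 12, 105), (5, 0, 134), (5, 5, 82), (5, 10, 17),
   (6, 3, 116), (6, 6, 51), (6, 11, 38), (7, 4, 77), (7, 7, 38), (7, 12, 77), (8, 0, 121), (8, 5, 56),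
   (8, 8, 43), (9, 1, 66), (9, 6, 53), (9, 9, 66), (10, 2, 29), (10, 7, 68), (10, 10, 107), (11, 3, 10),
   (11, 8, 101), (12, 1, 126), (12, 4, 9), (13, 2, 117), (13, 5, 26), (13, 10, 13), (14, 3, 126),
   (14, 6, 61), (14, 11, 35), (15, 7, 114), (15, 12, 10), (16, 0, 3), (17, 1, 14), (17, 6, 118),
   (17, 9, 105), (18, 2, 43), (18, 7, 69), (18, 10, 82), (19, 3, 90), (19, 8, 38), (19, 11, 77),
   (20, 4, 116), (20, 9, 25), (20, 12, 90), (21, 0, 121), (21, 5, 69), (21, 10, 30), (22, 3, 131),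
   (22, 6, 40), (22, 11, 53), (23, 4, 94), (23, 7, 29), (23, 12, 94), (24, 0, 114), (24, 5, 75), (24, 8, 36),
   (25, 1, 61), (25, 6, 74), (25, 9, 61), (26, 2, 13), (26, 7, 52), (26, 10, 104), (26, 11, 6), (27, 3, 9),
   (27, 8, 126), (28, 4, 10), (29, 5, 29), (29, 10, 81), (30, 1, 131), (30, 6, 66), (30, 11, 40),
   (31, 2, 134), (31, 7, 121), (31, 12, 17), (32, 0, 12), (32, 8, 129), (33, 1, 25), (33, 6, 129),
   (33, 9, 90), (34, 2, 56), (34, 6, 134), (34, 7, 82), (34, 10, 69), (35, 3, 105), (35, 7, 131),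
   (35, 8, 53), (35, 11, 66), (36, 4, 107), (36, 9, 42), (36, 12, 81), (37, 0, 114), (37, 5, 62),
   (37, 10, 49), (38, 2, 126), (38, 6, 35), (38, 11, 74), (39, 3, 117), (39, 4, 117), (39, 7, 26),
   (39, 12, 13), (40, 0, 113), (40, 4, 126), (40, 5, 100), (40, 8, 35), (41, 1, 62), (41, 6, 101),
   (41, 9, 62), (42, 2, 29), (42, 7, 120), (42, 10, 107), (43, 3, 14), (43, 12, 131), (44, 0, 134),
   (44, 4, 17), (45, 0, 129), (45, 5, 38), (45, 10, 90), (46, 1, 116), (46, 6, 77), (46, 10, 129),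
   (46, 11, 51), (47, 2, 121), (47, 7, 134), (47, 11, 134), (47, 12, 30), (48, 0, 27), (48, 8, 118),
   (49, 1, 42), (49, 5, 120), (49, 9, 81), (50, 2, 75), (50, 6, 101), (50, 7, 101), (50, 10, 62),
   (51, 3, 126), (51, 7, 100), (51, 8, 74), (51, 11, 61), (52, 3, 117), (52, 4, 52), (52, 8, 117),
   (52, 9, 24), (52, 12, 78), (53, 0, 113), (53, 1, 126), (53, 5, 61), (53, 10, 74), (54, 2, 101),
   (54, 6, 36), (54, 11, 101), (55, 3, 94), (55, 7, 29), (56, 0, 118), (56, 4, 105), (56, 5, 131),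
   (56, 8, 40), (57, 1, 69), (57, 5, 134), (57, 6, 134), (57, 9, 69), (58, 2, 38), (58, 10, 116),
   (58, 11, 129), (59, 3, 25), (59, 12, 116), (60, 0, 121), (60, 4, 30), (60, 8, 134), (61, 0, 118),
   (61, 5, 53), (61, 9, 105), (61, 10, 105), (62, 1, 107), (62, 6, 94), (62, 10, 94), (62, 11, 68),
   (63, 2, 114), (63, 11, 101), (63, 12, 49), (64, 0, 48), (64, 4, 126), (64, 8, 113), (64, 12, 126),
   (65, 1, 65), (65, 5, 91), (65, 8, 96), (65, 9, 78), (66, 2, 100), (66, 6, 74), (66, 7, 126), (66, 10, 61),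
   (67, 7, 75), (67, 8, 101), (67, 11, 62), (68, 4, 107), (68, 8, 94), (68, 9, 94), (68, 12, 81),
   (69, 0, 118), (69, 1, 105), (69, 5, 66), (69, 9, 131), (69, 10, 105), (70, 2, 82), (70, 6, 43),
   (70, 11, 134), (71, 3, 77), (71, 7, 38), (72, 0, 129), (72, 4, 90), (72, 8, 51), (72, 12, 129),
   (73, 0, 108), (73, 1, 82), (73, 5, 121), (73, 9, 82), (74, 1, 105), (74, 2, 53), (74, 10, 131),
   (74, 11, 118), (75, 2, 120), (75, 3, 42), (75, 12, 107), (76, 0, 114), (76, 4, 49), (76, 8, 101),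
   (77, 0, 113), (77, 5, 74), (77, 9, 74), (77, 10, 126), (78, 1, 104), (78, 6, 117), (78, 7, 54),
   (78, 10, 65), (78, 11, 52), (79, 2, 113), (79, 11, 74), (79, 12, 74), (80, 0, 75), (80, 4, 101),
   (80, 8, 114), (80, 12, 101), (81, 1, 94), (81, 5, 68), (81, 9, 81), (82, 2, 131), (82, 6, 53),
   (82, 10, 66), (83, 7, 56), (83, 8, 134), (83, 11, 69), (84, 0, 129), (84, 4, 116), (84, 8, 77),
   (84, 9, 129), (84, 12, 90), (85, 0, 129), (85, 1, 90), (85, 4, 129), (85, 5, 77), (85, 9, 116),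
   (86, 2, 69), (86, 5, 134), (86, 6, 56), (87, 3, 66), (87, 7, 53), (87, 11, 131), (88, 4, 81), (88, 8, 68),
   (88, 12, 94), (89, 0, 75), (89, 1, 101), (89, 5, 114), (89, 9, 101), (90, 1, 74), (90, 2, 74),
   (90, 11, 113), (91, 2, 52), (91, 3, 65), (91, 6, 54), (91, 7, 117), (91, 12, 104), (92, 0, 113),
   (92, 3, 126), (92, 4, 74), (92, 8, 74), (93, 0, 114), (93, 5, 101), (93, 9, 49), (94, 1, 107),
   (94, 10, 42), (94, 11, 120), (95, 2, 118), (95, 3, 131), (95, 11, 53), (95, 12, 105), (96, 0, 108),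
   (96, 4, 82), (96, 8, 121), (96, 12, 82), (97, 0, 129), (97, 1, 129), (97, 5, 51), (97, 9, 90),
   (98, 6, 38), (98, 10, 77), (99, 2, 134), (99, 7, 43), (99, 11, 82), (100, 0, 118), (100, 3, 105),
   (100, 4, 131), (100, 8, 66), (100, 12, 105), (101, 1, 81), (101, 4, 94), (101, 5, 94), (101, 9, 107),
   (102, 2, 62), (102, 5, 101), (102, 6, 75), (103, 3, 61), (103, 6, 126), (103, 7, 74), (103, 11, 100),
   (104, 4, 78), (104, 5, 96), (104, 8, 91), (104, 12, 65), (105, 0, 48), (105, 1, 126), (105, 5, 113),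
   (105, 9, 126), (106, 1, 49), (106, 2, 101), (106, 11, 114), (107, 2, 68), (107, 3, 94), (107, 7, 94),
   (107, 12, 107), (108, 0, 118), (108, 3, 105), (108, 4, 105), (108, 8, 53), (109, 0, 121), (109, 5, 134),
   (109, 9, 30), (110, 1, 116), (110, 10, 25), (111, 2, 129), (111, 3, 116), (111, 11, 38), (112, 4, 69),
   (112, 7, 134), (112, 8, 134), (112, 12, 69), (113, 0, 118), (113, 5, 40), (113, 8, 131), (113, 9, 105),
   (114, 6, 29), (114, 10, 94), (115, 2, 101), (115, 7, 36), (115, 11, 101), (116, 0, 113), (116, 3, 74),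
   (116, 8, 61), (116, 12, 126), (117, 1, 78), (117, 4, 24), (117, 5, 117), (117, 9, 52), (117, 10, 117),
   (118, 2, 61), (118, 5, 74), (118, 6, 100), (118, 10, 126), (119, 3, 62), (119, 6, 101), (119, 7, 101),
   (119, 11, 75), (120, 4, 81), (120, 8, 120), (120, 12, 42), (121, 0, 27), (121, 5, 118), (122, 1, 30),
   (122, 2, 134), (122, 6, 134), (122, 11, 121), (123, 2, 51), (123, 3, 129), (123, 7, 77), (123, 12, 116),
   (124, 0, 129), (124, 3, 90), (124, 8, 38), (125, 0, 134), (125, 9, 17), (126, 1, 131), (126, 10, 14),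
   (127, 3, 107), (127, 6, 120), (127, 11, 29), (128, 4, 62), (128, 7, 101), (128, 12, 62), (129, 0, 113),
   (129, 5, 35), (129, 8, 100), (129, 9, 126), (130, 1, 13), (130, 6, 26), (130, 9, 117), (130, 10, 117),
   (131, 2, 74), (131, 7, 35), (131, 11, 126), (132, 0, 114), (132, 3, 49), (132, 8, 62), (133, 1, 81),
   (133, 4, 42), (133, 9, 107), (134, 2, 66), (134, 5, 53), (134, 6, 131), (134, 10, 105), (135, 3, 69),
   (135, 6, 82), (135, 7, 134), (135, 11, 56), (136, 4, 90), (136, 7, 129), (136, 12, 25), (137, 0, 12),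
   (137, 5, 129), (138, 1, 17), (138, 6, 121), (138, 11, 134), (139, 2, 40), (139, 7, 66), (139, 12, 131),
   (140, 3, 81), (140, 8, 29), (141, 9, 10), (142, 5, 126), (142, 10, 9), (143, 2, 6), (143, 3, 104),
   (143, 6, 52), (143, 11, 13), (144, 4, 61), (144, 7, 74), (144, 12, 61), (145, 0, 114), (145, 5, 36),
   (145, 8, 75), (146, 1, 94), (146, 6, 29), (146, 9, 94), (147, 2, 53), (147, 7, 40), (147, 10, 131),
   (148, 0, 121), (148, 3, 30), (148, 8, 69), (149, 1, 90), (149, 4, 25), (149, 9, 116), (150, 2, 77),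
   (150, 5, 38), (150, 10, 90), (151, 3, 82), (151, 6, 69), (151, 11, 43), (152, 4, 105), (152, 7, 118),
   (152, 12, 14), (153, 0, 3), (154, 1, 10), (154, 6, 114), (155, 2, 35), (155, 7, 61), (155, 10, 126),
   (156, 3, 13), (156, 8, 26), (156, 11, 117), (157, 9, 9), (157, 12, 126), (158, 5, 101), (158, 10, 10),
   (159, 3, 107), (159, 6, 68), (159, 11, 29), (160, 4, 66), (160, 7, 53), (160, 12, 66), (161, 0, 121),
   (161, 5, 43), (161, 8, 56), (162, 1, 77), (162, 6, 38), (162, 9, 77), (163, 2, 38), (163, 7, 51),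
   (163, 10, 116), (164, 0, 134), (164, 3, 17), (164, 8, 82), (165, 1, 105), (165, 4, 14), (165, 9, 131),
   (166, 2, 94), (166, 5, 29), (166, 10, 81), (167, 3, 101), (167, 6, 62), (167, 11, 36), (168, 4, 126),
   (168, 7, 113), (168, 12, 9)]

/-- the logarithms modulo 71 -/
def L71 : ℕ := 502330949802237247921704872892095004330576544598447298294678016195833144683824758900676763182374655683790192727773692150967900888015282309505832853528493268562417418240

/-- the logarithms modulo 59 -/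
def L59 : ℕ := 5215871599707729468381987050035790397404298633392701885985122700269476695133191892332408060051306497978355689971791785401359406975707512832

/-- the logarithms modulo 47 -/
def L47 : ℕ := 51705387314554294342916032725401982061117010710752758956965484480394865543621185915608514204402837527404609536

/-- the degree bound -/
def nD : ℕ := 125213636056146619086

/-- `|5A| * 2375000` -/
def nN : ℕ := 2 ^ 35 * 3 ^ 14 * 5 ^ 8 * 7 ^ 5 * 11 * 13 ^ 3 * 17 * 19 * 23 * 29 * 31 * 41 * 47 * 59 * 71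

/-- `|2A|` -/
def nA : ℕ := 97239461142009186000

/-- the bound from the square of the class sum -/
def inr (d n s : ℕ) : Bool :=
  Nat.ble (nA * (n * s * (n * s))) (d * (d + 27143910000 * (n * s) + 80000000000000000000000000000))

/-- the residue of `± r` modulo `q` -/
def ng (q r : ℕ) (neg : Bool) : ℕ := if neg then (q - r % q) % q else r % q

/-- one value `z = X(13B)`: `zm` is `z mod 2197`, `za = |z|` -/
def chkz (d b13 n1 zm za : ℕ) : Bool :=
  T13.all fun e => !(Nat.beq e.2.1 b13) || !(Nat.beq ((d + 948 * zm + 1248 * e.1) % 2197) 0) ||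
    !(Nat.ble (n1 * 8911032 + e.2.2 * 6380088 + za * za * 20449) 882192168)

/-- all values `z = X(13B)` -/
def chk13 (d b13 n1 : ℕ) : Bool :=
  chkz d b13 n1 (d % 169) (d % 169) &&
  (chkz d b13 n1 (2197 + d % 169 - 169) (169 - d % 169) &&
  ((if d % 169 ≤ 38 then chkz d b13 n1 (d % 169 + 169) (d % 169 + 169) else true) &&
  (if 131 ≤ d % 169 then chkz d b13 n1 (2197 + d % 169 - 338) (338 - d % 169) else true)))

/-- the residues modulo `121` and `11` against the `11`-section -/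
def chk11 (d b13 d121 b11 : ℕ) (w11 : Bool) : Bool :=
  (if w11 then T11.all fun e => !(Nat.beq e.1 d121) || !(Nat.beq e.2.1 b11) || chk13 d b13 e.2.2 else true) &&
  (((66, 6) :: (22, 1) :: (55, 7) :: ([] : List (ℕ × ℕ))).all fun e =>
    !(Nat.beq e.1 d121) || !(Nat.beq e.2 b11) || chk13 d b13 11)

/-- one pair `d`, `b = ± n s`, `w = ± u s`; `neg` : `b < 0`; `cn` : `c = -1` -/
def chk (d n u : ℕ) (cn neg : Bool) (s : ℕ) : Bool :=
  (Nat.beq d 77316619273928125000 && Nat.beq (n * s) 11487099325000 && !neg && !cn) ||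
  chk11 d (ng 13 (n * s) neg) (ng 121 d cn) (ng 11 (n * s) (neg != cn)) (Nat.beq (u * s % 11) 0)

/-- all `s + j m` in the range -/
def run (p q : ℕ → Bool) (m : ℕ) : ℕ → ℕ → Bool
  | 0, s => !p s
  | f + 1, s => if p s then q s && run p q m f (s + m) else true

/-- refinement of a list of residues modulo `m` to residues modulo `m q`: `a t mod M` in `R` -/
def refine (a M : ℕ) (R : List ℕ) (m q : ℕ) (L : List ℕ) : List ℕ :=
  L.flatMap fun x => ((List.range q).map fun i => x + m * i).filter fun y => R.contains (a * y % M)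

/-- the steps at the prime two -/
def two (d n : ℕ) : ℕ → ℕ → ℕ → List ℕ → (ℕ → List ℕ → Bool) → Bool
  | 0, _, m, L, k => k m L
  | f + 1, M, m, L, k =>
    if n % M = 0 then (if d % M = 0 then two d n f (2 * M) m L k else true)
    else two d n f (2 * M) (2 * m) (refine n M [d % M] m 2 L) k

/-- the types -/
def tys (q : ℕ) : List (ℕ × ℕ) :=
  if q = 17 then [(1, 1), (6, 2), (6, 15), (7, 16), (8, 0), (3, 16), (16, 16), (11, 15), (11, 2), (10, 1), (9, 0), (14, 1)]
  else if q = 19 then [(1, 1), (4, 0), (5, 1), (3, 18), (6, 17), (18, 18), (15, 0), (14, 18), (16, 1), (13, 2)]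
  else if q = 23 then [(1, 1), (1, 22), (2, 0), (3, 1), (3, 22), (22, 22), (22, 1), (21, 0), (20, 22), (20, 1)]
  else if q = 31 then [(1, 1), (1, 30), (2, 0), (30, 30), (30, 1), (29, 0)]
  else [(1, 1), (1, 46), (46, 46), (46, 1)]

/-- the residues of `b` belonging to a residue of `d` -/
def rs (q r : ℕ) : List ℕ := ((tys q).filter fun e => Nat.beq e.1 r).map fun e => e.2

/-- the step at the prime `q` -/
def stp (d n q : ℕ) (k : ℕ → List ℕ → Bool) (m : ℕ) (L : List ℕ) : Bool :=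
  if d % q = 0 then k m L else k (m * q) (refine n q (rs q (d % q)) m q L)

/-- the end of the computation for one degree -/
def fin (d n u : ℕ) (cn : Bool) (m : ℕ) (L : List ℕ) : Bool :=
  L.all fun x => run (inr d n) (chk d n u cn false) m 40 x && run (inr d n) (chk d n u cn true) m 40 (m - x)

/-- one degree -/
def deg (d n u : ℕ) (cn : Bool) : Bool :=
  two d n 12 2 5 (refine u 5 [2] 1 5 [0])
    (stp d n 47 (stp d n 31 (stp d n 23 (stp d n 19 (stp d n 17 (fin d n u cn))))))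

/-- one degree -/
def goB (d : ℕ) (cn : Bool) : Bool := deg d (d / Nat.gcd d nA) (nA / Nat.gcd d nA) cn

/-- selection -/
def B (c x y : Bool) : Bool := Bool.rec (motive := fun _ => Bool) y x c

/-- forcing the evaluation -/
def F (x : ℕ) (k : ℕ → Bool) : Bool := Nat.rec (motive := fun _ => Bool) (k 0) (fun m _ => k (Nat.succ m)) x

/-- the test: sign of the degree -/
def m9 (d v : ℕ) : Bool := B (Nat.beq v 4) (goB d false) (B (Nat.beq v 1) (goB d true) true)
/-- the test at 17 -/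
def m8 (d : ℕ) : Bool := B (Nat.beq (Nat.mod (Nat.shiftRight 85963 (Nat.mod d 17)) 2) 1) (F (nN / d % 5) (m9 d)) true
/-- the test at 19 -/
def m7 (d : ℕ) : Bool := B (Nat.beq (Nat.mod (Nat.shiftRight 385147 (Nat.mod d 19)) 2) 1) (m8 d) true
/-- the test at 23 -/
def m6 (d : ℕ) : Bool := B (Nat.ble (Nat.mod (Nat.add d 3) 23) 6) (m7 d) true
/-- the test at 29 -/
def m5 (d : ℕ) : Bool := B (Nat.ble (Nat.mod (Nat.add d 2) 29) 4) (m6 d) true
/-- the test at 31 -/
def m4 (d : ℕ) : Bool := B (Nat.ble (Nat.mod (Nat.add d 2) 31) 4) (m5 d) true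
/-- the test at 41 -/
def m3 (d : ℕ) : Bool := B (Nat.ble (Nat.mod (Nat.add d 1) 41) 2) (m4 d) true
/-- the test at 47 -/
def m2 (d : ℕ) : Bool := B (Nat.ble (Nat.mod (Nat.add d 1) 47) 2) (m3 d) true
/-- the test at 59 -/
def m1 (d : ℕ) : Bool := B (Nat.ble (Nat.mod (Nat.add d 1) 59) 2) (m2 d) true

/-- the tests of one degree -/
def leaf (d : ℕ) : Bool := B (Nat.ble (Nat.mod (Nat.add d 1) 71) 2) (m1 d) true

/-- one degree with the bound -/
def leafD (x : ℕ) : Bool := B (Nat.ble x nD) (leaf x) true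

/-- one degree, `a` is the exponent of two -/
def leafAt (P a : ℕ) : Bool := B (Nat.ble a 35) (F (Nat.mul P (Nat.pow 2 a)) leafD) true

/-- two degrees -/
def leafT (P e a : ℕ) : Bool := B (leafAt P a) (leafAt P (Nat.add a e)) false

/-- all `x p ^ j` with `j ≤ k` below the bound -/
def loop (p : ℕ) (f : ℕ → Bool) (k x : ℕ) : Bool :=
  Nat.rec (motive := fun _ => ℕ → Bool) (fun x => B (Nat.ble x nD) (f x) true)
    (fun _ ih x => B (Nat.ble x nD) (B (f x) (F (Nat.mul x p) ih) false) true) k x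

/-- all exponents of two -/
def loop2 (P : ℕ) : Bool := loop 2 leaf 35 P

/-- all exponents of two: use of the prime 47 -/
def t47 (P : ℕ) : Bool :=
  B (Nat.beq (Nat.mod P 47) 0) (loop2 P)
    (F (Nat.mod (Nat.shiftRight L47 (Nat.mul 8 (Nat.mod P 47))) 256) (leafT P 23))
/-- all exponents of two: use of the prime 59 -/
def t59 (P : ℕ) : Bool :=
  B (Nat.beq (Nat.mod P 59) 0) (t47 P)
    (F (Nat.mod (Nat.shiftRight L59 (Nat.mul 8 (Nat.mod P 59))) 256) (leafT P 29))

/-- all exponents of two: use of the prime 71 -/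
def tail (P : ℕ) : Bool :=
  B (Nat.beq (Nat.mod P 71) 0) (t59 P)
    (F (Nat.mod (Nat.shiftRight L71 (Nat.mul 8 (Nat.mod P 71))) 256) (leafT P 35))

end Cfsg.Agent.H924.M23
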